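import Groth.Agent.L29.Desc.PairPush
import Groth.Agent.L02.Canon.DescInvertible
import Groth.Agent.L15.CohFlat
import Groth.Agent.L16.Exist.PushPull
import Groth.Agent.L06.FibTrdeg
import Groth.Agent.L29.DCoh.QCohOps
import Groth.Agent.L18.LocFreeTilde
import Groth.Agent.L16.NegPow.Gen
import Groth.Agent.L29.DCoh.PCQCoh
import Groth.Agent.L05.Point.UnramFlat

/-!
Descent of finite locally free modules which are trivial over the points of codimension at most one.
-/

set_option autoImplicit false
set_option backward.isDefEq.respectTransparency false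
set_option backward.isDefEq.respectTransparency.types false
set_option linter.style.haveILetI false
universe u

open CategoryTheory CategoryTheory.Limits AlgebraicGeometry TopologicalSpace Opposite

noncomputable section

namespace Groth.L29.Desc

open Groth.L00.PullStalk (φ stalkIso)
open Groth.L21.RR (st st_comp)
open Groth.L29.RegPair (Pair)

theorem bijective_of_extendScalars {A B : Type u} [CommRing A] [CommRing B] [IsLocalRing A] [IsLocalRing B]
    (g : A →+* B) [IsLocalHom g] (hg : g.Flat) {M N : ModuleCat.{u} A} (h : M ⟶ N)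
    (hb : Function.Bijective ((ModuleCat.extendScalars g).map h)) : Function.Bijective h := by
  algebraize [g]
  haveI : IsLocalHom (algebraMap A B) := ‹IsLocalHom g›
  haveI : Module.FaithfullyFlat A B := Module.FaithfullyFlat.of_flat_of_isLocalHom
  refine (Module.FaithfullyFlat.lTensor_bijective_iff_bijective A B h.hom).1 ?_
  exact hb

theorem flat_of_extendScalars {A B : Type u} [CommRing A] [CommRing B] [IsLocalRing A] [IsLocalRing B]
    (g : A →+* B) [IsLocalHom g] (hg : g.Flat) (M : ModuleCat.{u} A)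
    (hb : Module.Flat B ((ModuleCat.extendScalars g).obj M)) : Module.Flat A M := by
  algebraize [g]
  haveI : IsLocalHom (algebraMap A B) := ‹IsLocalHom g›
  haveI : Module.FaithfullyFlat A B := Module.FaithfullyFlat.of_flat_of_isLocalHom
  haveI : Module.Flat B (TensorProduct A B M) := hb
  exact Module.Flat.of_flat_tensorProduct A M B

variable {X S : Scheme.{u}}

/-- A map is bijective at the images of a flat morphism along which it pulls back to an isomorphism. -/
theorem bijective_st_of_pullback {Z : Scheme.{u}} (g : Z ⟶ X) [Flat g] {M N : X.Modules} (ε : M ⟶ N)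
    [IsIso ((Scheme.Modules.pullback g).map ε)] (z : Z) : Function.Bijective (st ε (g z)) := by
  refine bijective_of_extendScalars (g.stalkMap z).hom (Flat.stalkMap g z)
    ((Groth.L00.Stk.F X (g z)).map ε) ?_
  haveI : IsIso ((Scheme.Modules.pullback g ⋙ Groth.L00.Stk.F Z z).map ε) :=
    inferInstanceAs (IsIso ((Groth.L00.Stk.F Z z).map ((Scheme.Modules.pullback g).map ε)))
  haveI : IsIso ((Groth.L00.Stk.F X (g z) ⋙ ModuleCat.extendScalars (φ g z)).map ε) :=
    (NatIso.isIso_map_iff (stalkIso g z) ε).1 inferInstance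
  exact ConcreteCategory.bijective_of_isIso
    ((Groth.L00.Stk.F X (g z) ⋙ ModuleCat.extendScalars (φ g z)).map ε)

variable (f : X ⟶ S) (E : X.Modules)

/-- The counit is bijective over the points near which the module is trivial. -/
theorem bijective_counit_of_trivial [IsProper f] [Coh.IsQCoh E]
    (hO : ∀ U : S.Opens, Function.Bijective (f.app U).hom) {r : ℕ} (s : S)
    (e : (Scheme.Modules.pullback (pullback.fst f (S.fromSpecStalk s))).obj E ≅
      FlatMod.freeMod (pullback f (S.fromSpecStalk s)) r) (x : X) (hx : f x = s) :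
    Function.Bijective (st ((Scheme.Modules.pullbackPushforwardAdjunction f).counit.app E) x) := by
  let g := S.fromSpecStalk s
  have pb : IsPullback (pullback.fst f g) (pullback.snd f g) f g := IsPullback.of_hasPullback f g
  haveI hg : Flat g := Groth.L05.Point.flat_fromSpecStalk s
  haveI : Flat (pullback.fst f g) := MorphismProperty.of_isPullback pb.flip inferInstance
  have hp' : ∀ U, IsIso ((pullback.snd f g).app U) := fun U =>
    (ConcreteCategory.isIso_iff_bijective _).2 (Groth.L02.Canon.DescInvertible.bijective_app_of_flat pb hO U)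
  haveI := Groth.L02.Canon.FlatBc0.isIso_bc0 pb E
  haveI := Groth.L20.DescLocus.isIso_counit_of_free (pullback.snd f g) hp' e
  haveI : IsIso ((Scheme.Modules.pullback (pullback.fst f g)).map
      ((Scheme.Modules.pullbackPushforwardAdjunction f).counit.app E)) := by
    rw [Groth.L20.DescLocus.pullback_counit f g (pullback.snd f g) (pullback.fst f g) pb.w E]
    infer_instance
  obtain ⟨z, hz, -⟩ := Scheme.Pullback.exists_preimage_pullback (f := f) (g := g) x
    (IsLocalRing.closedPoint (S.presheaf.stalk s)) (hx.trans (Scheme.fromSpecStalk_closedPoint).symm)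
  rw [← hz]
  exact bijective_st_of_pullback (pullback.fst f g) _ z

theorem st_zero_apply {M N : X.Modules} (x : X) (v : M.presheaf.stalk x) : st (0 : M ⟶ N) x v = 0 := by
  simp only [st, Functor.map_zero]
  rfl

theorem subsingleton_kernel {M N : X.Modules} (ε : M ⟶ N) (x : X) (h : Function.Injective (st ε x)) :
    Subsingleton ((kernel ε).presheaf.stalk x) := by
  haveI := (Groth.L00.Stk.F X x).map_mono (kernel.ι ε)
  have hι : Function.Injective (st (kernel.ι ε) x) := (ModuleCat.mono_iff_injective _).1 this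
  refine ⟨fun a b => hι (h ?_)⟩
  rw [← st_comp, ← st_comp, kernel.condition, st_zero_apply, st_zero_apply]

theorem subsingleton_cokernel {M N : X.Modules} (ε : M ⟶ N) (x : X) (h : Function.Surjective (st ε x)) :
    Subsingleton ((cokernel ε).presheaf.stalk x) := by
  haveI := (Groth.L00.Stk.F X x).map_epi (cokernel.π ε)
  have hπ : Function.Surjective (st (cokernel.π ε) x) := (ModuleCat.epi_iff_surjective _).1 this
  have h0 : ∀ a : (cokernel ε).presheaf.stalk x, a = 0 := fun a => by
    obtain ⟨b, rfl⟩ := hπ a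
    obtain ⟨c, rfl⟩ := h b
    rw [← st_comp, cokernel.condition, st_zero_apply]
  exact ⟨fun a b => (h0 a).trans (h0 b).symm⟩

theorem exists_kernel_rep {M N : X.Modules} (ε : M ⟶ N) (x : X) (v : M.presheaf.stalk x) (hv : st ε x v = 0) :
    ∃ k, st (kernel.ι ε) x k = v :=
  (ShortComplex.moduleCat_exact_iff _).1
    ((ShortComplex.exact_kernel ε).map (Groth.L00.Stk.F X x)) v hv

theorem exists_of_cokernel {M N : X.Modules} (ε : M ⟶ N) (x : X) (v : N.presheaf.stalk x)
    (hv : st (cokernel.π ε) x v = 0) : ∃ u, st ε x u = v :=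
  (ShortComplex.moduleCat_exact_iff _).1
    ((ShortComplex.exact_cokernel ε).map (Groth.L00.Stk.F X x)) v hv

/-- The inductive step at a point of codimension at least two. -/
theorem bijective_counit_step [Flat f] [IsProper f] [IsLocallyNoetherian S] [Coh.IsQCoh E]
    (hflat : ∀ y, Module.Flat (X.presheaf.stalk y) (E.presheaf.stalk y)) (x : X)
    [IsDomain (S.presheaf.stalk (f x))] [IsIntegrallyClosed (S.presheaf.stalk (f x))]
    (hd : ¬ ringKrullDim (S.presheaf.stalk (f x)) ≤ 1)
    (ih : ∀ y : X, f y ⤳ f x → f y ≠ f x →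
      Function.Bijective (st ((Scheme.Modules.pullbackPushforwardAdjunction f).counit.app E) y)) :
    Function.Bijective (st ((Scheme.Modules.pullbackPushforwardAdjunction f).counit.app E) x) := by
  haveI : IsNoetherianRing (S.presheaf.stalk (f x)) := inferInstance
  let G := (Scheme.Modules.pushforward f).obj E
  let ε := (Scheme.Modules.pullbackPushforwardAdjunction f).counit.app E
  haveI : Coh.IsQCoh G := Groth.L16.QcqsPush.isQCoh_push E f
  haveI hP : Coh.IsQCoh ((Scheme.Modules.pullback f).obj G) := Groth.L16.AffineBC.isQCoh_pullback f G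
  haveI hK : Coh.IsQCoh (kernel ε) := Groth.L29.DC.isQCoh_kernel' ε hP ‹_›
  haveI hC : Coh.IsQCoh (cokernel ε) := Groth.L29.DC.isQCoh_cokernel' ε hP ‹_›
  obtain ⟨a, b, ham, hbm, -, hab⟩ := Groth.L29.RegPair.exists_pair_of_normal hd
  have hpM := pair_push f E hflat hab
  have hfl : (f.stalkMap x).hom.Flat := Flat.stalkMap f x
  have hpP : Pair ((φ f x) a) ((φ f x) b) (((Scheme.Modules.pullback f).obj G).presheaf.stalk x) :=
    (Groth.L29.RegPair.pair_extendScalars (φ f x) hfl ((Groth.L00.Stk.F S (f x)).obj G) hpM).of_equiv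
      ((stalkIso f x).app G).toLinearEquiv.symm
  haveI := hflat x
  have hpE := Groth.L29.RegPair.pair_of_flat_free (φ f x) hfl hab (E.presheaf.stalk x)
  have hkill : ∀ c ∈ IsLocalRing.maximalIdeal (S.presheaf.stalk (f x)),
      (∀ v, ∃ n : ℕ, (φ f x) c ^ n • (v : (kernel ε).presheaf.stalk x) = 0) ∧
        (∀ v, ∃ n : ℕ, (φ f x) c ^ n • (v : (cokernel ε).presheaf.stalk x) = 0) := by
    intro c hc
    obtain ⟨Vc, hxc, c₀, rfl⟩ := S.presheaf.exists_germ_eq c
    obtain ⟨_, ⟨W, hW, rfl⟩, hxW, hWle⟩ :=
      X.isBasis_affineOpens.exists_subset_of_mem_open (a := x) (show x ∈ f ⁻¹ᵁ Vc from hxc) (f ⁻¹ᵁ Vc).2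
    change W ≤ f ⁻¹ᵁ Vc at hWle
    let aW : Γ(X, W) := X.presheaf.map (homOfLE hWle).op (f.app Vc c₀)
    have hgerm : X.presheaf.germ W x hxW aW = (φ f x) (S.presheaf.germ Vc (f x) hxc c₀) :=
      (X.presheaf.germ_res_apply (homOfLE hWle) x hxW _).trans (Scheme.Hom.germ_stalkMap_apply f Vc x hxc c₀).symm
    have hne : ∀ y, y ⤳ x → y ∈ X.basicOpen aW →
        Function.Bijective (st ε y) := fun y hyx hya => by
      refine ih y (hyx.map f.continuous) fun hfy => ?_
      have h1 : y ∈ f ⁻¹ᵁ S.basicOpen c₀ := by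
        rw [Scheme.preimage_basicOpen]
        exact (Scheme.basicOpen_res X (f.app Vc c₀) (homOfLE hWle).op).le hya |>.2
      have h2 : f x ∈ S.basicOpen c₀ := hfy ▸ h1
      exact (IsLocalRing.mem_maximalIdeal _).1 hc ((S.mem_basicOpen c₀ (f x) hxc).1 h2)
    rw [← hgerm]
    exact ⟨fun v => exists_pow_smul_eq_zero (kernel ε) hW hxW aW
        (fun y h1 h2 => subsingleton_kernel ε y (hne y h1 h2).1) v,
      fun v => exists_pow_smul_eq_zero (cokernel ε) hW hxW aW
        (fun y h1 h2 => subsingleton_cokernel ε y (hne y h1 h2).2) v⟩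
  have hrange : ∀ c ∈ IsLocalRing.maximalIdeal (S.presheaf.stalk (f x)), ∀ e : E.presheaf.stalk x,
      ∃ (n : ℕ) (v : ((Scheme.Modules.pullback f).obj G).presheaf.stalk x), st ε x v = (φ f x) c ^ n • e := by
    intro c hc e
    obtain ⟨n, hn⟩ := (hkill c hc).2 (st (cokernel.π ε) x e)
    exact ⟨n, exists_of_cokernel ε x _ (by rw [map_smul, hn])⟩
  refine Groth.L29.RegPair.bijective_of_pair hpP hpE.1 (st ε x) (fun v hv => ?_) (hrange a ham) (hrange b hbm)
  obtain ⟨k, rfl⟩ := exists_kernel_rep ε x v hv
  obtain ⟨n, hn⟩ := (hkill a ham).1 k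
  exact ⟨n, (map_smul (st (kernel.ι ε) x) _ k).symm.trans ((congrArg _ hn).trans (map_zero _))⟩

theorem surjective_of_bijective_app [IsProper f] (hO : ∀ U : S.Opens, Function.Bijective (f.app U).hom) (s : S) :
    ∃ x, f x = s := by
  by_contra hc
  push Not at hc
  let V : S.Opens := ⟨(Set.range fun x => f x)ᶜ, (f.isClosedMap.isClosed_range).isOpen_compl⟩
  have hsV : s ∈ V := fun ⟨x, hx⟩ => hc x hx
  have he : f ⁻¹ᵁ V = ⊥ := eq_bot_iff.2 fun x hx => (hx ⟨x, rfl⟩ : False).elim
  haveI : Subsingleton Γ(X, f ⁻¹ᵁ V) := by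
    rw [he]
    exact CommRingCat.subsingleton_of_isTerminal X.sheaf.isTerminalOfEmpty
  have h01 : (1 : Γ(S, V)) = 0 := (hO V).1 (Subsingleton.elim _ _)
  have := congrArg (S.presheaf.germ V s hsV) h01
  rw [map_one, map_zero] at this
  exact one_ne_zero this

/-- Descent from codimension one. -/
theorem exists_iso_pullback_of_dim_le_one [Flat f] [IsProper f]
    (hO : ∀ U : S.Opens, Function.Bijective (f.app U).hom) [IsNoetherian S] (hS : Pi1.IsNormalScheme S)
    (hE : FlatMod.IsFinLocFree E)
    (h1 : ∀ s : S, ringKrullDim (S.presheaf.stalk s) ≤ 1 → ∃ r : ℕ,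
      Nonempty ((Scheme.Modules.pullback (pullback.fst f (S.fromSpecStalk s))).obj E ≅
        FlatMod.freeMod (pullback f (S.fromSpecStalk s)) r)) :
    ∃ G : S.Modules, FlatMod.IsFinLocFree G ∧ Nonempty (E ≅ (Scheme.Modules.pullback f).obj G) := by
  haveI : IsLocallyNoetherian X := LocallyOfFiniteType.isLocallyNoetherian f
  have hflat : ∀ y, Module.Flat (X.presheaf.stalk y) (E.presheaf.stalk y) := fun y => by
    haveI := Groth.L18.LFP.free_stalk E hE y
    infer_instance
  haveI hEq : Coh.IsQCoh E := Groth.L29.DC.PCQCoh.isQCoh_of_isFinLocFree hE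
  have hall : ∀ s : S, ∀ x : X, f x = s →
      Function.Bijective (st ((Scheme.Modules.pullbackPushforwardAdjunction f).counit.app E) x) := by
    intro s
    induction s using (InvImage.wf (fun s : S => ringKrullDim (S.presheaf.stalk s)) wellFounded_lt).induction with
    | _ s ih =>
      intro x hx
      by_cases hd : ringKrullDim (S.presheaf.stalk s) ≤ 1
      · obtain ⟨r, ⟨e⟩⟩ := h1 s hd
        exact bijective_counit_of_trivial f E hO s e x hx
      · subst hx
        haveI := (hS (f x)).1
        haveI := (hS (f x)).2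
        exact bijective_counit_step f E hflat x hd fun y hyx hne =>
          ih (f y) (Groth.L06.FibTrdeg.ringKrullDim_stalk_lt hyx hne) y rfl
  let G := (Scheme.Modules.pushforward f).obj E
  haveI : IsIso ((Scheme.Modules.pullbackPushforwardAdjunction f).counit.app E) :=
    (Groth.L21.Mod.isIso_iff_stalk_bijective _).2 fun x => hall _ x rfl
  have hEc : Coh.IsCoh E := Groth.L16.NegPow.isCoh_of_isFinLocFree hE
  have hG : Coh.IsCoh G := Groth.L16.Exist.isCoh_pushforward f hEc
  have hGflat : FlatMod.IsFlat G := fun s => by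
    obtain ⟨x, rfl⟩ := surjective_of_bijective_app f hO s
    refine flat_of_extendScalars (φ f x) (Flat.stalkMap f x) ((Groth.L00.Stk.F S (f x)).obj G) ?_
    haveI : Module.Flat (X.presheaf.stalk x) (((𝟭 X.Modules).obj E).presheaf.stalk x) := hflat x
    exact Module.Flat.of_linearEquiv (((stalkIso f x).app G).toLinearEquiv.symm.trans
      (LinearEquiv.ofBijective (st ((Scheme.Modules.pullbackPushforwardAdjunction f).counit.app E) x) (hall _ x rfl)))
  exact ⟨G, Groth.L15.CohFlat.isFinLocFree_of_isCoh_isFlat G hG hGflat,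
    ⟨(asIso ((Scheme.Modules.pullbackPushforwardAdjunction f).counit.app E)).symm⟩⟩

end Groth.L29.Desc
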