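import Groth.Agent.L29.Desc.RegPair
import Groth.Agent.L21.RR.Equality
import Groth.Agent.L00.PullStalk
import Groth.Agent.L20.ModStalk

import Mathlib.AlgebraicGeometry.Morphisms.Flat
import Mathlib.AlgebraicGeometry.Morphisms.Proper


/-!
Regular pairs on stalks of direct images, and sections of quasi-coherent modules killed by powers.
-/

set_option autoImplicit false
set_option backward.isDefEq.respectTransparency false
set_option backward.isDefEq.respectTransparency.types false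
set_option linter.style.haveILetI false
universe u

open CategoryTheory CategoryTheory.Limits AlgebraicGeometry TopologicalSpace Opposite

noncomputable section

namespace Groth.L29.Desc

open Groth.L18.Frame (rs ro rs_rs rs_smul)
open Groth.L20.ModStalk (germ_rs germ_smul stalkModule germₗ)
open Groth.L29.RegPair (Pair)

variable {X S : Scheme.{u}}

/-- A nonzerodivisor in a stalk is one nearby. -/
theorem exists_nzd_nhd [IsLocallyNoetherian S] {V : S.Opens} (hV : IsAffineOpen V) {s : S} (hs : s ∈ V)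
    (a : Γ(S, V)) (ha : ∀ z, S.presheaf.germ V s hs a * z = 0 → z = 0) :
    ∃ h : Γ(S, V), s ∈ S.basicOpen h ∧ ∀ (s' : S) (hs' : s' ∈ V), s' ∈ S.basicOpen h →
      ∀ z, S.presheaf.germ V s' hs' a * z = 0 → z = 0 := by
  classical
  haveI : IsNoetherianRing Γ(S, V) := IsLocallyNoetherian.component_noetherian ⟨V, hV⟩
  obtain ⟨T, hT⟩ := IsNoetherian.noetherian (LinearMap.ker (LinearMap.mulLeft Γ(S, V) a))
  letI := S.presheaf.algebra_section_stalk ⟨s, hs⟩
  haveI := hV.isLocalization_stalk ⟨s, hs⟩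
  have hu : ∀ t : T, ∃ u : (hV.primeIdealOf ⟨s, hs⟩).asIdeal.primeCompl, (u : Γ(S, V)) * t.1 = 0 := fun t => by
    refine (IsLocalization.map_eq_zero_iff (hV.primeIdealOf ⟨s, hs⟩).asIdeal.primeCompl (S.presheaf.stalk s) t.1).1 ?_
    refine ha _ ?_
    have ht : a * t.1 = 0 := LinearMap.mem_ker.1 (hT ▸ Submodule.subset_span t.2)
    show S.presheaf.germ V s hs a * S.presheaf.germ V s hs t.1 = 0
    rw [← map_mul, ht, map_zero]
  choose u hu using hu
  let h : Γ(S, V) := ∏ t, (u t : Γ(S, V))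
  refine ⟨h, (S.mem_basicOpen _ s hs).2 ?_, fun s' hs' hmem z hz => ?_⟩
  · show IsUnit (algebraMap Γ(S, V) (S.presheaf.stalk s) (∏ t, (u t : Γ(S, V))))
    rw [map_prod]
    exact IsUnit.prod_iff.2 fun t _ => IsLocalization.map_units (S.presheaf.stalk s) (u t)
  letI := S.presheaf.algebra_section_stalk ⟨s', hs'⟩
  haveI := hV.isLocalization_stalk ⟨s', hs'⟩
  obtain ⟨⟨k, v⟩, hkv⟩ := IsLocalization.surj (hV.primeIdealOf ⟨s', hs'⟩).asIdeal.primeCompl z
  have h0 : algebraMap Γ(S, V) (S.presheaf.stalk s') (a * k) = 0 := by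
    rw [map_mul, ← hkv, ← mul_assoc]
    show S.presheaf.germ V s' hs' a * z * _ = 0
    rw [hz, zero_mul]
  obtain ⟨w, hw⟩ := (IsLocalization.map_eq_zero_iff (hV.primeIdealOf ⟨s', hs'⟩).asIdeal.primeCompl _ _).1 h0
  have hk : (w : Γ(S, V)) * k ∈ LinearMap.ker (LinearMap.mulLeft Γ(S, V) a) := by
    rw [LinearMap.mem_ker, LinearMap.mulLeft_apply, mul_left_comm]
    exact hw
  have h1 : h * ((w : Γ(S, V)) * k) = 0 := by
    have hle : Submodule.span Γ(S, V) (T : Set Γ(S, V)) ≤ LinearMap.ker (LinearMap.mulLeft Γ(S, V) h) := by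
      rw [Submodule.span_le]
      intro t ht
      show h * t = 0
      obtain ⟨q, hq⟩ := Finset.dvd_prod_of_mem (fun t => (u t : Γ(S, V))) (Finset.mem_univ (⟨t, ht⟩ : T))
      show (∏ t, (u t : Γ(S, V))) * t = 0
      rw [hq, mul_right_comm, hu ⟨t, ht⟩, zero_mul]
    exact hle (hT.symm ▸ hk)
  have hh : IsUnit (algebraMap Γ(S, V) (S.presheaf.stalk s') h) := (S.mem_basicOpen h s' hs').1 hmem
  have hwu := IsLocalization.map_units (S.presheaf.stalk s') w
  have h2 := congrArg (algebraMap Γ(S, V) (S.presheaf.stalk s')) h1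
  rw [map_mul, map_mul, map_zero, hh.mul_right_eq_zero, hwu.mul_right_eq_zero, ← hkv] at h2
  exact (IsLocalization.map_units (S.presheaf.stalk s') v).mul_left_eq_zero.1 h2

variable (f : X ⟶ S) (E : X.Modules)

/-- Germs of the sections of a direct image act through the map of local rings. -/
theorem germ_push_smul {V : S.Opens} (r : Γ(S, V)) (t : Γ((Scheme.Modules.pushforward f).obj E, V))
    {y : X} (hy : f y ∈ V) :
    E.presheaf.germ (f ⁻¹ᵁ V) y hy (r • t : Γ((Scheme.Modules.pushforward f).obj E, V)) =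
      f.stalkMap y (S.presheaf.germ V (f y) hy r) •
        E.presheaf.germ (f ⁻¹ᵁ V) y hy (show Γ(E, f ⁻¹ᵁ V) from t) := by
  rw [Scheme.Hom.germ_stalkMap_apply]
  exact germ_smul E hy (f.app V r) t

theorem pair_germ [Flat f] (hE : ∀ y, Module.Flat (X.presheaf.stalk y) (E.presheaf.stalk y)) {y : X} {s : S}
    (hy : f y = s) {V : S.Opens} (hs : s ∈ V) {a b : Γ(S, V)}
    (h : Pair (S.presheaf.germ V s hs a) (S.presheaf.germ V s hs b) (S.presheaf.stalk s)) :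
    Pair (f.stalkMap y (S.presheaf.germ V (f y) (hy.symm ▸ hs) a))
      (f.stalkMap y (S.presheaf.germ V (f y) (hy.symm ▸ hs) b)) (E.presheaf.stalk y) := by
  subst hy
  haveI := hE y
  exact Groth.L29.RegPair.pair_of_flat_free (f.stalkMap y).hom (Flat.stalkMap f y) h _

/-- A regular pair of `O_s` is one on the stalk of a direct image. -/
theorem pair_push [IsProper f] [Flat f] [IsLocallyNoetherian S]
    (hE : ∀ y, Module.Flat (X.presheaf.stalk y) (E.presheaf.stalk y)) {s : S} {a b : S.presheaf.stalk s}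
    (h : Pair a b (S.presheaf.stalk s)) : Pair a b (((Scheme.Modules.pushforward f).obj E).presheaf.stalk s) := by
  let G := (Scheme.Modules.pushforward f).obj E
  obtain ⟨Va, hsa, a₀, rfl⟩ := S.presheaf.exists_germ_eq a
  obtain ⟨Vb, hsb, b₀, rfl⟩ := S.presheaf.exists_germ_eq b
  obtain ⟨_, ⟨V₀, hV₀, rfl⟩, hs₀, hle⟩ := S.isBasis_affineOpens.exists_subset_of_mem_open
    (a := s) (show s ∈ Va ⊓ Vb from ⟨hsa, hsb⟩) (Va ⊓ Vb).2
  change V₀ ≤ Va ⊓ Vb at hle
  let a₁ : Γ(S, V₀) := S.presheaf.map (homOfLE (hle.trans inf_le_left)).op a₀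
  let b₁ : Γ(S, V₀) := S.presheaf.map (homOfLE (hle.trans inf_le_right)).op b₀
  have ea : S.presheaf.germ V₀ s hs₀ a₁ = S.presheaf.germ Va s hsa a₀ :=
    S.presheaf.germ_res_apply (homOfLE (hle.trans inf_le_left)) s hs₀ a₀
  have eb : S.presheaf.germ V₀ s hs₀ b₁ = S.presheaf.germ Vb s hsb b₀ :=
    S.presheaf.germ_res_apply (homOfLE (hle.trans inf_le_right)) s hs₀ b₀
  rw [← ea, ← eb] at h ⊢
  obtain ⟨hh, hsh, hnzd⟩ := exists_nzd_nhd hV₀ hs₀ a₁ h.1
  -- `a` is injective on all germs of `E` over the small neighbourhood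
  have hinj : ∀ (y : X) (hy : f y ∈ V₀), f y ∈ S.basicOpen hh →
      ∀ v : E.presheaf.stalk y, f.stalkMap y (S.presheaf.germ V₀ (f y) hy a₁) • v = 0 → v = 0 := by
    intro y hy hy'
    haveI := hE y
    have h1 : Pair (S.presheaf.germ V₀ (f y) hy a₁) (1 : S.presheaf.stalk (f y)) (S.presheaf.stalk (f y)) :=
      ⟨fun z hz => hnzd (f y) hy hy' z hz, fun z w hzw => ⟨w, by rwa [one_smul] at hzw⟩⟩
    exact (Groth.L29.RegPair.pair_of_flat_free (f.stalkMap y).hom (Flat.stalkMap f y) h1 _).1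
  -- representatives
  have hrep : ∀ z : G.presheaf.stalk s, ∃ (W : S.Opens) (hW : s ∈ W), W ≤ S.basicOpen hh ∧
      ∃ t : Γ(G, W), G.presheaf.germ W s hW t = z := fun z => by
    obtain ⟨W, hW, t, rfl⟩ := G.presheaf.exists_germ_eq z
    exact ⟨W ⊓ S.basicOpen hh, ⟨hW, hsh⟩, inf_le_right, rs G inf_le_left t,
      germ_rs G inf_le_left (show s ∈ W ⊓ S.basicOpen hh from ⟨hW, hsh⟩) t⟩
  refine ⟨fun z hz => ?_, fun z w hzw => ?_⟩
  · obtain ⟨W, hW, hWle, t, rfl⟩ := hrep z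
    have hWV : W ≤ V₀ := hWle.trans (S.basicOpen_le hh)
    rw [← S.presheaf.germ_res_apply (homOfLE hWV) s hW a₁, ← germ_smul G hW,
      ← map_zero (G.presheaf.germ W s hW).hom] at hz
    obtain ⟨W', hW', i₁, i₂, he⟩ := G.presheaf.germ_eq s hW hW _ _ hz
    rw [← germ_rs G i₁.le hW' t]
    convert map_zero (G.presheaf.germ W' s hW').hom
    refine TopCat.Presheaf.section_ext ⟨E.presheaf, E.isSheaf⟩ (f ⁻¹ᵁ W') _ _ fun y hy => ?_
    refine Eq.trans ?_ (map_zero (E.presheaf.germ (f ⁻¹ᵁ W') y hy).hom).symm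
    refine hinj y (hWV (i₁.le hy)) (hWle (i₁.le hy)) _ ?_
    have he' := congrArg (E.presheaf.germ (f ⁻¹ᵁ W') y hy) (show
      (rs G i₁.le (ro hWV a₁ • t) : Γ(G, W')) = 0 from he.trans (map_zero _))
    rw [rs_smul] at he'
    refine Eq.trans ?_ (he'.trans (map_zero _))
    refine Eq.trans ?_ (germ_push_smul f E _ _ hy).symm
    congr 2
    exact ((S.presheaf.germ_res_apply (homOfLE i₁.le) (f y) hy _).trans
      (S.presheaf.germ_res_apply (homOfLE hWV) (f y) (i₁.le hy) a₁)).symm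
  · obtain ⟨Wz, hWz, hWzle, tz, rfl⟩ := hrep z
    obtain ⟨Ww, hWw, -, tw, rfl⟩ := hrep w
    let W : S.Opens := Wz ⊓ Ww
    have hW : s ∈ W := ⟨hWz, hWw⟩
    have hWh : W ≤ S.basicOpen hh := inf_le_left.trans hWzle
    have hWV : W ≤ V₀ := hWh.trans (S.basicOpen_le hh)
    rw [← germ_rs G (inf_le_left : W ≤ Wz) hW tz, ← germ_rs G (inf_le_right : W ≤ Ww) hW tw,
      ← S.presheaf.germ_res_apply (homOfLE hWV) s hW a₁, ← S.presheaf.germ_res_apply (homOfLE hWV) s hW b₁,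
      ← germ_smul G hW, ← germ_smul G hW] at hzw
    obtain ⟨W₁, hW₁, i₁, i₂, he⟩ := G.presheaf.germ_eq s hW hW _ _ hzw
    let z₁ : Γ(G, W₁) := rs G i₁.le (rs G (inf_le_left : W ≤ Wz) tz)
    let w₁ : Γ(G, W₁) := rs G i₁.le (rs G (inf_le_right : W ≤ Ww) tw)
    let a₂ : Γ(S, W₁) := ro (i₁.le.trans hWV) a₁
    let b₂ : Γ(S, W₁) := ro (i₁.le.trans hWV) b₁
    have hzw₁ : b₂ • z₁ = a₂ • w₁ := by
      change rs G i₁.le (ro hWV b₁ • _) = rs G i₁.le (ro hWV a₁ • _) at he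
      rw [rs_smul, rs_smul] at he
      rw [show b₂ = ro i₁.le (ro hWV b₁) from (Groth.L18.Frame.ro_ro _ _ _).symm,
        show a₂ = ro i₁.le (ro hWV a₁) from (Groth.L18.Frame.ro_ro _ _ _).symm]
      exact he
    have eg : ∀ (y : X) (hy : f y ∈ W₁) (r : Γ(S, V₀)),
        S.presheaf.germ W₁ (f y) hy (ro (i₁.le.trans hWV) r) =
          S.presheaf.germ V₀ (f y) (hWV (i₁.le hy)) r :=
      fun y hy r => S.presheaf.germ_res_apply (homOfLE (i₁.le.trans hWV)) (f y) hy r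
    -- division near the fibre
    let O : Set X := {y | ∃ (U : X.Opens) (hU : U ≤ f ⁻¹ᵁ W₁) (t : Γ(E, U)), y ∈ U ∧
      rs E hU (show Γ(E, f ⁻¹ᵁ W₁) from z₁) = ro hU (f.app W₁ a₂) • t}
    have hOopen : IsOpen O := by
      refine isOpen_iff_mem_nhds.2 fun y hy => ?_
      obtain ⟨U, hU, t, hyU, ht⟩ := hy
      exact Filter.mem_of_superset (U.2.mem_nhds hyU) fun y' hy' => ⟨U, hU, t, hy', ht⟩
    have hfib : ∀ y : X, f y = s → y ∈ O := by
      intro y hy
      have hy₁ : f y ∈ W₁ := hy.symm ▸ hW₁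
      have hp := pair_germ f E hE hy hs₀ h
      have e1 := germ_push_smul f E b₂ z₁ hy₁
      have e2 := germ_push_smul f E a₂ w₁ hy₁
      rw [hzw₁, eg y hy₁ b₁] at e1
      rw [eg y hy₁ a₁] at e2
      obtain ⟨v, hv⟩ := hp.2 _ _ (e1.symm.trans e2)
      obtain ⟨U, hyU, t, rfl⟩ := E.presheaf.exists_germ_eq v
      rw [← eg y hy₁ a₁, Scheme.Hom.germ_stalkMap_apply,
        ← X.presheaf.germ_res_apply (homOfLE (inf_le_right : U ⊓ f ⁻¹ᵁ W₁ ≤ f ⁻¹ᵁ W₁)) y ⟨hyU, hy₁⟩,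
        ← germ_rs E (inf_le_left : U ⊓ f ⁻¹ᵁ W₁ ≤ U) (show y ∈ U ⊓ f ⁻¹ᵁ W₁ from ⟨hyU, hy₁⟩) t,
        ← germ_smul E, ← germ_rs E (inf_le_right : U ⊓ f ⁻¹ᵁ W₁ ≤ f ⁻¹ᵁ W₁) (show y ∈ U ⊓ f ⁻¹ᵁ W₁ from ⟨hyU, hy₁⟩)] at hv
      obtain ⟨U', hyU', j₁, j₂, hU'⟩ := E.presheaf.germ_eq y _ _ _ _ hv
      refine ⟨U', j₁.le.trans inf_le_right, rs E (j₁.le.trans inf_le_left) t, hyU', ?_⟩
      change rs E j₁.le (rs E _ _) = rs E j₁.le (ro _ _ • rs E _ t) at hU'
      rw [rs_rs, rs_smul, rs_rs, Groth.L18.Frame.ro_ro] at hU'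
      exact hU'
    let C : Set S := (fun y => f y) '' Oᶜ
    have hC : IsClosed C := f.isClosedMap _ hOopen.isClosed_compl
    have hsC : s ∉ C := fun ⟨y, hy, hys⟩ => hy (hfib y hys)
    let V' : S.Opens := W₁ ⊓ ⟨Cᶜ, hC.isOpen_compl⟩
    have hsV' : s ∈ V' := ⟨hW₁, hsC⟩
    have hO : ∀ y : X, f y ∈ V' → y ∈ O := fun y hy => by_contra fun hyO => hy.2 ⟨y, hyO, rfl⟩
    choose U hU t hyU ht using fun y : (f ⁻¹ᵁ V' : X.Opens) => hO y.1 y.2
    let U' : (f ⁻¹ᵁ V' : X.Opens) → X.Opens := fun y => U y ⊓ f ⁻¹ᵁ V'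
    have huniq : ∀ (Q : X.Opens) (hQ : Q ≤ f ⁻¹ᵁ W₁) (p q : Γ(E, Q)),
        ro hQ (f.app W₁ a₂) • p = ro hQ (f.app W₁ a₂) • q → p = q := by
      intro Q hQ p q hpq
      refine TopCat.Presheaf.section_ext ⟨E.presheaf, E.isSheaf⟩ Q p q fun y hy => sub_eq_zero.1 ?_
      refine hinj y (hWV (i₁.le (hQ hy))) (hWh (i₁.le (hQ hy))) _ ?_
      have h2 := congrArg (E.presheaf.germ Q y hy) hpq
      rw [germ_smul E hy, germ_smul E hy] at h2
      rw [← eg y (hQ hy) a₁, Scheme.Hom.germ_stalkMap_apply,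
        ← X.presheaf.germ_res_apply (homOfLE hQ) y hy, smul_sub, sub_eq_zero]
      exact h2
    obtain ⟨T, hT, -⟩ := TopCat.Sheaf.existsUnique_gluing' ⟨E.presheaf, E.isSheaf⟩ U' (f ⁻¹ᵁ V')
      (fun y => homOfLE inf_le_right) (fun y hy => Opens.mem_iSup.2 ⟨⟨y, hy⟩, hyU _, hy⟩)
      (fun y => rs E inf_le_left (t y)) (fun y y' => by
        show rs E inf_le_left (rs E inf_le_left (t y)) = rs E inf_le_right (rs E inf_le_left (t y'))
        refine huniq (U' y ⊓ U' y') ((inf_le_left.trans inf_le_left).trans (hU y)) _ _ ?_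
        have e1 := congrArg (rs E ((inf_le_left.trans inf_le_left : U' y ⊓ U' y' ≤ U y))) (ht y)
        have e2 := congrArg (rs E ((inf_le_right.trans inf_le_left : U' y ⊓ U' y' ≤ U y'))) (ht y')
        rw [rs_rs, rs_smul, Groth.L18.Frame.ro_ro] at e1 e2
        rw [rs_rs, rs_rs]
        exact e1.symm.trans e2)
    refine ⟨G.presheaf.germ V' s hsV' T, ?_⟩
    rw [← germ_rs G (inf_le_left : W ≤ Wz) hW tz, ← germ_rs G i₁.le hW₁,
      ← germ_rs G (inf_le_left : V' ≤ W₁) hsV', ← S.presheaf.germ_res_apply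
        (homOfLE ((inf_le_left : V' ≤ W₁).trans (i₁.le.trans hWV))) s hsV' a₁, ← germ_smul G hsV']
    congr 1
    refine TopCat.Presheaf.section_ext ⟨E.presheaf, E.isSheaf⟩ (f ⁻¹ᵁ V') _ _ fun y hy => ?_
    have hy' : y ∈ U' ⟨y, hy⟩ := ⟨hyU _, hy⟩
    have h3 := congrArg (E.presheaf.germ (U ⟨y, hy⟩) y (hyU _)) (ht ⟨y, hy⟩)
    rw [germ_smul E, germ_rs E (hU ⟨y, hy⟩) (hyU _)] at h3
    refine Eq.trans ?_ (germ_push_smul f E _ T hy).symm
    refine Eq.trans ((germ_rs E (f.preimage_mono inf_le_left) hy (show Γ(E, f ⁻¹ᵁ W₁) from z₁)).trans h3) ?_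
    congr 1
    · refine (X.presheaf.germ_res_apply (homOfLE (hU ⟨y, hy⟩)) y (hyU _) _).trans ?_
      rw [← Scheme.Hom.germ_stalkMap_apply f W₁ y hy.1]
      congr 1
      exact (eg y hy.1 a₁).trans (S.presheaf.germ_res_apply _ (f y) hy a₁).symm
    · refine Eq.trans ?_ (germ_rs E (inf_le_right : U' ⟨y, hy⟩ ≤ f ⁻¹ᵁ V') hy' T)
      exact (germ_rs E inf_le_left hy' _).symm.trans
        (congrArg (E.presheaf.germ (U' ⟨y, hy⟩) y hy') (hT ⟨y, hy⟩)).symm

/-- A stalk element killed after inverting `a` is killed by a power of `a`. -/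
theorem exists_pow_smul_eq_zero (K : X.Modules) [Coh.IsQCoh K] {W : X.Opens} (hW : IsAffineOpen W) {x : X}
    (hx : x ∈ W) (a : Γ(X, W))
    (h : ∀ y, y ⤳ x → y ∈ X.basicOpen a → Subsingleton (K.presheaf.stalk y)) (v : K.presheaf.stalk x) :
    ∃ n : ℕ, X.presheaf.germ W x hx a ^ n • v = 0 := by
  letI := stalkModule K hx
  haveI := Groth.L20.ModStalk.isLocalizedModule_germ K hW hx
  letI := X.presheaf.algebra_section_stalk (⟨x, hx⟩ : W)
  haveI := hW.isLocalization_stalk ⟨x, hx⟩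
  haveI : IsScalarTower Γ(X, W) (X.presheaf.stalk x) (K.presheaf.stalk x) :=
    IsScalarTower.of_algebraMap_smul fun _ _ => rfl
  let p := (hW.primeIdealOf ⟨x, hx⟩)
  obtain ⟨⟨m, s⟩, hms⟩ := IsLocalizedModule.surj p.asIdeal.primeCompl (germₗ K hx) v
  let I : Ideal Γ(X, W) := LinearMap.ker (LinearMap.toSpanSingleton Γ(X, W) Γ(K, W) m)
  suffices hrad : algebraMap Γ(X, W) (X.presheaf.stalk x) a ∈
      (I.map (algebraMap Γ(X, W) (X.presheaf.stalk x))).radical by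
    obtain ⟨n, hn⟩ := hrad
    rw [← map_pow, IsLocalization.mem_map_algebraMap_iff p.asIdeal.primeCompl] at hn
    obtain ⟨⟨i, u⟩, hiu⟩ := hn
    rw [← map_mul, IsLocalization.eq_iff_exists p.asIdeal.primeCompl] at hiu
    obtain ⟨c, hc⟩ := hiu
    refine ⟨n, ?_⟩
    have hz : ((c : Γ(X, W)) * u * a ^ n) • m = 0 := by
      rw [mul_assoc, mul_comm (u : Γ(X, W)), hc, mul_smul]
      rw [show (i : Γ(X, W)) • m = 0 from i.2, smul_zero]
    have h2 := congrArg (germₗ K hx) hz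
    rw [map_smul, map_zero, ← hms, Submonoid.smul_def, smul_smul,
      ← algebraMap_smul (X.presheaf.stalk x) ((c : Γ(X, W)) * u * a ^ n * s) v, map_mul, map_mul, map_mul,
      map_pow] at h2
    have hu : IsUnit (algebraMap Γ(X, W) (X.presheaf.stalk x) c * algebraMap Γ(X, W) (X.presheaf.stalk x) u *
        algebraMap Γ(X, W) (X.presheaf.stalk x) s) :=
      ((IsLocalization.map_units _ c).mul (IsLocalization.map_units _ u)).mul (IsLocalization.map_units _ s)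
    refine hu.smul_eq_zero.1 ?_
    rw [smul_smul]
    refine Eq.trans ?_ h2
    congr 1
    show _ * algebraMap Γ(X, W) (X.presheaf.stalk x) a ^ n = _
    ring
  rw [Ideal.radical_eq_sInf, Submodule.mem_sInf]
  rintro Q ⟨hIQ, hQ⟩
  by_contra haQ
  haveI := hQ
  let q : PrimeSpectrum Γ(X, W) := ⟨Ideal.comap (algebraMap Γ(X, W) (X.presheaf.stalk x)) Q, Ideal.IsPrime.comap _⟩
  have hqp : q ≤ p := fun z hz => by
    by_contra hzp
    exact hQ.ne_top (Ideal.eq_top_of_isUnit_mem _ hz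
      (IsLocalization.map_units (X.presheaf.stalk x) (⟨z, hzp⟩ : p.asIdeal.primeCompl)))
  let y : X := hW.fromSpec q
  have hyW : y ∈ W := by
    rw [← SetLike.mem_coe, ← hW.range_fromSpec]; exact ⟨q, rfl⟩
  have hpq : hW.primeIdealOf ⟨y, hyW⟩ = q :=
    hW.fromSpec.isOpenEmbedding.injective (hW.fromSpec_primeIdealOf ⟨y, hyW⟩)
  have hyx : y ⤳ x := by
    have h0 := ((PrimeSpectrum.le_iff_specializes q p).1 hqp).map hW.fromSpec.continuous
    rwa [show hW.fromSpec p = x from hW.fromSpec_primeIdealOf ⟨x, hx⟩] at h0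
  have hya : y ∈ X.basicOpen a := by
    show q ∈ hW.fromSpec ⁻¹ᵁ X.basicOpen a
    rw [hW.fromSpec_preimage_basicOpen]
    exact haQ
  haveI := h y hyx hya
  letI := stalkModule K hyW
  haveI := Groth.L20.ModStalk.isLocalizedModule_germ K hW hyW
  obtain ⟨u, hu⟩ := (IsLocalizedModule.eq_zero_iff (hW.primeIdealOf ⟨y, hyW⟩).asIdeal.primeCompl
    (germₗ K hyW)).1 (Subsingleton.elim (germₗ K hyW m) 0)
  have hmem : (u : Γ(X, W)) ∈ q.asIdeal := hIQ (Ideal.mem_map_of_mem _ (show (u : Γ(X, W)) ∈ I from hu))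
  exact u.2 ((SetLike.ext_iff.1 (congrArg PrimeSpectrum.asIdeal hpq) _).2 hmem)

end Groth.L29.Desc
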