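import Groth.Agent.L06.NormalAscent
import Mathlib.RingTheory.Flat.Basic
import Mathlib.RingTheory.Flat.FaithfullyFlat.Algebra
import Mathlib.Algebra.Category.ModuleCat.ChangeOfRings

/-!
Pairs of elements acting regularly on a module.
-/

set_option autoImplicit false
set_option backward.isDefEq.respectTransparency false
set_option linter.style.haveILetI false
universe u

noncomputable section

namespace Groth.L29.RegPair

open IsLocalRing CategoryTheory TensorProduct

variable {A : Type u} [CommRing A]

/-- `a` is injective on `M` and `b` is injective on `M ⧸ a M`. -/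
def Pair (a b : A) (M : Type u) [AddCommGroup M] [Module A M] : Prop :=
  (∀ z : M, a • z = 0 → z = 0) ∧ ∀ z w : M, b • z = a • w → ∃ t : M, z = a • t

variable {a b : A} {M N : Type u} [AddCommGroup M] [Module A M] [AddCommGroup N] [Module A N]

theorem Pair.pow_left_inj (h : Pair a b M) : ∀ (n : ℕ) (z : M), a ^ n • z = 0 → z = 0
  | 0, z, hz => by rwa [pow_zero, one_smul] at hz
  | n + 1, z, hz => by
    rw [pow_succ', mul_smul] at hz
    exact h.pow_left_inj n z (h.1 _ hz)

theorem Pair.pow_right (h : Pair a b M) : ∀ (m : ℕ) (z w : M), b ^ m • z = a • w → ∃ t : M, z = a • t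
  | 0, z, w, hz => ⟨w, by rwa [pow_zero, one_smul] at hz⟩
  | m + 1, z, w, hz => by
    rw [pow_succ', mul_smul] at hz
    obtain ⟨t, ht⟩ := h.2 _ _ hz
    exact h.pow_right m z t ht

theorem Pair.pow_pow (h : Pair a b M) (m : ℕ) : ∀ (n : ℕ) (z w : M), b ^ m • z = a ^ n • w → ∃ t : M, z = a ^ n • t
  | 0, z, _, _ => ⟨z, by rw [pow_zero, one_smul]⟩
  | n + 1, z, w, hz => by
    rw [pow_succ', mul_smul] at hz
    obtain ⟨t, rfl⟩ := h.pow_right m z _ hz
    have h2 : b ^ m • t = a ^ n • w := by
      refine sub_eq_zero.1 (h.1 _ ?_)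
      rw [smul_sub, sub_eq_zero, ← hz, smul_comm]
    obtain ⟨t', rfl⟩ := h.pow_pow m n t w h2
    exact ⟨t', by rw [pow_succ', mul_smul]⟩

/-- A map which is bijective after inverting either element of a regular pair is bijective. -/
theorem bijective_of_pair (hM : Pair a b M) (hN : ∀ z : N, a • z = 0 → z = 0) (φ : M →ₗ[A] N)
    (hker : ∀ v, φ v = 0 → ∃ n : ℕ, a ^ n • v = 0)
    (ha : ∀ e : N, ∃ (n : ℕ) (v : M), φ v = a ^ n • e) (hb : ∀ e : N, ∃ (n : ℕ) (v : M), φ v = b ^ n • e) :
    Function.Bijective φ := by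
  have hinj : Function.Injective φ := (injective_iff_map_eq_zero φ).2 fun v hv => by
    obtain ⟨n, hn⟩ := hker v hv
    exact hM.pow_left_inj n v hn
  refine ⟨hinj, fun e => ?_⟩
  obtain ⟨n, z, hz⟩ := ha e
  obtain ⟨m, w, hw⟩ := hb e
  obtain ⟨t, rfl⟩ := hM.pow_pow m n z w (hinj (by rw [map_smul, map_smul, hz, hw, smul_comm]))
  refine ⟨t, sub_eq_zero.1 ?_⟩
  have h0 : a ^ n • (φ t - e) = 0 := by rw [smul_sub, ← map_smul, hz, sub_self]
  clear hz
  generalize φ t - e = d at h0
  induction n with
  | zero => rwa [pow_zero, one_smul] at h0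
  | succ n ih => rw [pow_succ', mul_smul] at h0; exact ih (hN _ h0)

theorem Pair.of_equiv (h : Pair a b M) (e : M ≃ₗ[A] N) : Pair a b N :=
  ⟨fun z hz => e.symm.injective ((h.1 (e.symm z) (by rw [← map_smul, hz, map_zero])).trans (map_zero _).symm),
    fun z w hzw => by
      obtain ⟨t, ht⟩ := h.2 (e.symm z) (e.symm w) (by rw [← map_smul, hzw, map_smul])
      exact ⟨e t, by rw [← map_smul, ← ht, e.apply_symm_apply]⟩⟩

/-- Tensoring with a flat module keeps regular pairs. -/
theorem Pair.tensor (h : Pair a b M) (F : Type u) [AddCommGroup F] [Module A F] [Module.Flat A F] :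
    Pair a b (F ⊗[A] M) := by
  let f : M →ₗ[A] M × M := (a • LinearMap.id).prod (b • LinearMap.id)
  let g : M × M →ₗ[A] M := b • LinearMap.fst A M M - a • LinearMap.snd A M M
  have hex : Function.Exact f g := fun ⟨z, w⟩ => by
    show b • z - a • w = 0 ↔ _
    rw [sub_eq_zero]
    constructor
    · intro hzw
      obtain ⟨t, rfl⟩ := h.2 z w hzw
      refine ⟨t, Prod.ext rfl (sub_eq_zero.1 (h.1 _ ?_))⟩
      show a • (b • t - w) = 0
      rw [smul_sub, ← hzw, smul_comm, sub_self]
    · rintro ⟨t, ht⟩
      have h1 : a • t = z := congrArg Prod.fst ht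
      have h2 : b • t = w := congrArg Prod.snd ht
      rw [← h1, ← h2, smul_comm]
  have hinj : Function.Injective (a • LinearMap.id : M →ₗ[A] M) :=
    (injective_iff_map_eq_zero _).2 fun z hz => h.1 z hz
  have key : ∀ (r : A) (x : F ⊗[A] M), (r • LinearMap.id : M →ₗ[A] M).lTensor F x = r • x := fun r x => by
    rw [LinearMap.lTensor_smul, LinearMap.lTensor_id, LinearMap.smul_apply, LinearMap.id_apply]
  constructor
  · intro z hz
    apply Module.Flat.lTensor_preserves_injective_linearMap (M := F) _ hinj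
    rw [key, hz, map_zero]
  · intro z w hzw
    let y : F ⊗[A] (M × M) := (TensorProduct.prodRight A A F M M).symm (z, w)
    have hy : g.lTensor F y = 0 := by
      have : ∀ p : F ⊗[A] (M × M), g.lTensor F p =
          b • ((TensorProduct.prodRight A A F M M) p).1 - a • ((TensorProduct.prodRight A A F M M) p).2 := fun p => by
        induction p using TensorProduct.induction_on with
        | zero => simp
        | tmul x q => simp [g, TensorProduct.tmul_sub]
        | add x y hx hy => simp only [map_add, Prod.fst_add, Prod.snd_add, smul_add, hx, hy]; abel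
      rw [this, LinearEquiv.apply_symm_apply, hzw, sub_self]
    obtain ⟨t, ht⟩ := (Module.Flat.lTensor_exact F hex y).1 hy
    refine ⟨t, ?_⟩
    have : ∀ p : F ⊗[A] M, ((TensorProduct.prodRight A A F M M) (f.lTensor F p)).1 = a • p := fun p => by
      induction p using TensorProduct.induction_on with
      | zero => simp
      | tmul x q => simp [f]
      | add x y hx hy => simp only [map_add, Prod.fst_add, smul_add, hx, hy]
    rw [← this t, ht, LinearEquiv.apply_symm_apply]

theorem Pair.of_flat (h : Pair a b A) [Module.Flat A N] : Pair a b N :=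
  (h.tensor N).of_equiv (TensorProduct.rid A N)

section BaseChange

variable {B : Type u} [CommRing B] (φ : A →+* B)

theorem pair_extendScalars (hφ : φ.Flat) (M : ModuleCat.{u} A) (h : Pair a b M) :
    Pair (φ a) (φ b) ((ModuleCat.extendScalars φ).obj M) := by
  algebraize [φ]
  have h' : Pair a b (B ⊗[A] M) := h.tensor B
  change Pair (algebraMap A B a) (algebraMap A B b) (B ⊗[A] M)
  simpa only [Pair, algebraMap_smul] using h'

theorem pair_of_flat_free (hφ : φ.Flat) (h : Pair a b A) (N : Type u) [AddCommGroup N] [Module B N]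
    [Module.Flat B N] : Pair (φ a) (φ b) N := by
  algebraize [φ]
  letI : Module A N := Module.compHom N φ
  haveI : IsScalarTower A B N := IsScalarTower.of_algebraMap_smul fun _ _ => rfl
  haveI : Module.Flat A N := Module.Flat.trans A B N
  have h' : Pair a b N := h.of_flat
  exact h'

end BaseChange

theorem exists_pair_of_normal {A : Type u} [CommRing A] [IsDomain A] [IsNoetherianRing A] [IsLocalRing A]
    [IsIntegrallyClosed A] (h : ¬ ringKrullDim A ≤ 1) :
    ∃ a b : A, a ∈ maximalIdeal A ∧ b ∈ maximalIdeal A ∧ a ≠ 0 ∧ Pair a b A := by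
  have hne : maximalIdeal A ≠ ⊥ := fun h0 => h (by
    rw [← maximalIdeal_height_eq_ringKrullDim, h0, Ideal.height_bot]; exact zero_le_one)
  obtain ⟨a, ha, ha0⟩ := Submodule.exists_mem_ne_zero_of_ne_bot hne
  rcases Groth.L04.exists_regular_or_killed (maximalIdeal A) (A ⧸ Ideal.span {a}) with ⟨y, hy, hreg⟩ | ⟨z, hz, hk⟩
  · refine ⟨a, y, ha, hy, ha0, fun c hc => (mul_eq_zero.mp hc).resolve_left ha0, fun c w hcw => ?_⟩
    have hc : c ∈ Ideal.span {a} := by
      refine Ideal.Quotient.eq_zero_iff_mem.mp (hreg.right_eq_zero_of_smul ?_)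
      rw [← Ideal.Quotient.mk_eq_mk, ← Submodule.Quotient.mk_smul, Submodule.Quotient.mk_eq_zero]
      rw [hcw]
      exact Ideal.mul_mem_right _ _ (Ideal.mem_span_singleton_self a)
    obtain ⟨t, ht⟩ := Ideal.mem_span_singleton.1 hc
    exact ⟨t, ht⟩
  · exfalso
    obtain ⟨c, rfl⟩ := Ideal.Quotient.mk_surjective z
    haveI := Groth.L01.isDVR_of_maximalIdeal_mul_le ha0 (c := c)
      (fun hc => hz (Ideal.Quotient.eq_zero_iff_mem.mpr hc)) (fun t ht => Ideal.Quotient.eq_zero_iff_mem.mp (hk t ht))
    exact h (Ring.krullDimLE_iff.mp inferInstance)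

end Groth.L29.RegPair
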